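import Groth.Agent.Lib.ModLimH13.Noeth
import Groth.Agent.Lib.LimH13.ModelGlue

/-!
# Descent of finitely presented modules to a quasi-compact quasi-separated stage
-/

set_option autoImplicit false

universe u

set_option linter.style.haveILetI false
set_option backward.isDefEq.respectTransparency false
set_option backward.isDefEq.respectTransparency.types false

open AlgebraicGeometry CategoryTheory Limits Groth.Agent.M1 Groth.Agent.ModLimH13

namespace Groth.Agent.ModDesc13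

/-- Finite type modules are quotients of pullbacks along affine morphisms. -/
theorem exists_epi_pullback {Z B : Scheme.{u}} (π : Z ⟶ B) [IsAffineHom π] [CompactSpace B] [QuasiSeparatedSpace B]
    (F : Z.Modules) (hFq : Coh.IsQCoh F) (hF : CohB1.IsFT F) :
    ∃ (Q : B.Modules) (θ : (Scheme.Modules.pullback π).obj Q ⟶ F),
      Coh.IsQCoh Q ∧ CohB1.IsFT Q ∧ Epi θ := by
  classical
  obtain ⟨Vs, -, hVs⟩ := exists_finset_affine_cover (⊤ : B.Opens) isCompact_univ
  let P := (Scheme.Modules.pushforward π).obj F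
  have hP : Coh.IsQCoh P := M1.isQCoh_push _ hFq
  have hfin : ∀ V : B.affineOpens, ∃ T : Finset Γ(F, π ⁻¹ᵁ (V : B.Opens)),
      Submodule.span Γ(Z, π ⁻¹ᵁ (V : B.Opens)) (↑T : Set Γ(F, π ⁻¹ᵁ (V : B.Opens))) = ⊤ := fun V =>
    (M1.finite_sections hFq hF (V.2.preimage π)).fg_top
  choose T hT using hfin
  obtain ⟨Q, hQ, hQ', hQm⟩ := exists_sub_through hP (Vs.sigma T) (fun q => q.1)
    (fun q => (show Γ(P, (q.1 : B.Opens)) from q.2))
  let adj := Scheme.Modules.pullbackPushforwardAdjunction π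
  let θ := (adj.homEquiv Q.P F).symm Q.i
  have hθ : ∀ (V : B.Opens) (b : Γ(Q.P, V)),
      θ.app (π ⁻¹ᵁ V) (M2.pullSec π Q.P b) = Q.i.app V b := fun V b => by
    have e := (adj.homEquiv Q.P F).apply_symm_apply Q.i
    rw [Adjunction.homEquiv_unit] at e
    exact congrArg (fun m : Q.P ⟶ P => m.app V b) e
  haveI : Coh.IsQCoh F := hFq
  refine ⟨Q.P, θ, hQ, hQ', Abelian.epi_of_cokernel_π_eq_zero θ ?_⟩
  refine hom_eq_zero_of_generators (cokernel.π θ) fun x => ?_
  obtain ⟨V, hV, hxV⟩ := hVs (π x) trivial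
  refine ⟨π ⁻¹ᵁ V.1, ↑(T V), hxV, V.2.preimage π, hT V, fun t ht => ?_⟩
  obtain ⟨b, hb⟩ := hQm ⟨V, t⟩ (Finset.mem_sigma.2 ⟨hV, ht⟩)
  rw [show t = θ.app (π ⁻¹ᵁ V.1) (M2.pullSec π Q.P b) from (hb.symm.trans (hθ V.1 b).symm),
    ← comp_app_apply, cokernel.condition]
  rfl

/-- A module of finite presentation on the limit comes from a stage. -/
theorem exists_module_descend {I : Type u} [SmallCategory I] [IsCofiltered I] {D : I ⥤ Scheme.{u}} {c : Cone D}
    (hc : IsLimit c) [∀ (i j : I) (f : i ⟶ j), IsAffineHom (D.map f)] {i₀ : I}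
    [CompactSpace (D.obj i₀)] [QuasiSeparatedSpace (D.obj i₀)] (F : c.pt.Modules)
    [Coh.IsQCoh F] (hF : CohB1.IsFP F) :
    ∃ (j : I) (_ : j ⟶ i₀) (Fj : (D.obj j).Modules), Coh.IsQCoh Fj ∧
      CohB1.IsFP Fj ∧ Nonempty ((Scheme.Modules.pullback (c.π.app j)).obj Fj ≅ F) := by
  obtain ⟨B, g, hBc, hB, hg⟩ := LimH13.hasZModel (D.obj i₀)
  haveI := hBc
  haveI := hg
  haveI := hB.quasiSeparatedSpace
  haveI : LocallyOfFiniteType (specULiftZIsTerminal.from B) := hB
  haveI : IsNoetherianRing (ULift.{u} ℤ) := isNoetherianRing_of_ringEquiv ℤ ULift.ringEquiv.symm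
  haveI : IsLocallyNoetherian B := LocallyOfFiniteType.isLocallyNoetherian (specULiftZIsTerminal.from B)
  haveI : IsAffineHom (c.π.app i₀) := isAffineHom_π_app D c hc i₀
  obtain ⟨N, θ, hN, hN', hθ⟩ := exists_epi_pullback (c.π.app i₀ ≫ g) F ‹_› (M1.isFP_isFT hF)
  haveI := hθ
  have hQ : Coh.IsQCoh ((Scheme.Modules.pullback g).obj N) := M1.isQCoh_pullback g hN
  haveI := hQ
  let p : (Scheme.Modules.pullback (c.π.app i₀)).obj ((Scheme.Modules.pullback g).obj N) ⟶ F :=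
    ((cmp (c.π.app i₀) g rfl).app N).hom ≫ θ
  haveI : Epi p := inferInstanceAs (Epi (((cmp (c.π.app i₀) g rfl).app N).hom ≫ θ))
  obtain ⟨j, φ, Gj, hGj, -, e, hfp, -, -⟩ :=
    exists_quotient_descend hc ((Scheme.Modules.pullback g).obj N)
      (M1.isFP_pullback g (M1.isFP_of_isCoh ⟨hN, hN'⟩)) hF p
  exact ⟨j, φ, Gj, hGj, hfp, ⟨e⟩⟩

end Groth.Agent.ModDesc13
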